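import Groth.Prelude.Def_CAlgX
import Mathlib.LinearAlgebra.TensorProduct.Vanishing
import Mathlib.LinearAlgebra.TensorProduct.Pi
import Mathlib.LinearAlgebra.TensorProduct.RightExactness
import Mathlib.LinearAlgebra.DFinsupp
import Mathlib.RingTheory.Finiteness.Basic
import Mathlib.RingTheory.TensorProduct.Finite
import Mathlib.RingTheory.TensorProduct.DirectLimitFG
import Mathlib.Algebra.Module.FinitePresentation

/-!
Pure projective modules and pure covers.
-/

set_option autoImplicit false
set_option maxHeartbeats 800000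
universe u

open TensorProduct

namespace PureExtLib

variable {R : Type u} [CommRing R]

/-- The lifting property against universally exact surjections. -/
def PureProj (R : Type u) [CommRing R] (P : Type u) [AddCommGroup P] [Module R P] : Prop :=
  ∀ ⦃L N : Type u⦄ [AddCommGroup L] [Module R L] [AddCommGroup N] [Module R N] (g : L →ₗ[R] N),
    Function.Surjective g → CAlgX.UniversallyInjective R (LinearMap.ker g).subtype →
    ∀ φ : P →ₗ[R] N, ∃ ψ : P →ₗ[R] L, g ∘ₗ ψ = φ

variable {K L N : Type u} [AddCommGroup K] [Module R K] [AddCommGroup L] [Module R L] [AddCommGroup N] [Module R N]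

/-- Systems of equations solvable in the larger module are solvable in a pure submodule. -/
theorem exists_solution {i : K →ₗ[R] L} (hi : CAlgX.UniversallyInjective R i) {m n : ℕ} (a : Fin n → Fin m → R)
    (k : Fin n → K) (l : Fin m → L) (h : ∀ j, i (k j) = ∑ p, a j p • l p) :
    ∃ c : Fin m → K, ∀ j, k j = ∑ p, a j p • c p := by
  classical
  let T : (Fin m → R) →ₗ[R] (Fin n → R) := Matrix.toLin' (Matrix.of a)
  let q := (LinearMap.range T).mkQ
  let x : K ⊗[R] (Fin n → R) := ∑ j, k j ⊗ₜ Pi.single j 1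
  have hcol : ∀ p, ∑ j, a j p • q (Pi.single j 1) = 0 := fun p => by
    simp_rw [← map_smul, ← map_sum]
    refine (Submodule.Quotient.mk_eq_zero _).2 ⟨Pi.single p 1, ?_⟩
    ext j
    simp [T, Finset.sum_apply, Pi.single_apply]
  have hx : q.lTensor K x = 0 := by
    refine hi _ ?_
    rw [map_zero]
    simp only [x, map_sum, LinearMap.lTensor_tmul, LinearMap.rTensor_tmul, h, TensorProduct.sum_tmul]
    rw [Finset.sum_comm]
    refine Finset.sum_eq_zero fun p _ => ?_
    simp_rw [TensorProduct.smul_tmul, ← TensorProduct.tmul_sum, hcol, TensorProduct.tmul_zero]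
  obtain ⟨y, hy⟩ := (lTensor_exact K (f := T) (g := q) T.exact_map_mkQ_range (Submodule.mkQ_surjective _) x).1 hx
  let e : ∀ s : ℕ, (K ⊗[R] (Fin s → R)) ≃ₗ[R] (Fin s → K) := fun s => TensorProduct.piScalarRight R R K (Fin s)
  refine ⟨e m y, fun j => ?_⟩
  have key : ∀ y, e n (T.lTensor K y) j = ∑ p, a j p • e m y p := fun y => by
    induction y using TensorProduct.induction_on with
    | zero => simp
    | add y z hy hz => simp only [map_add, Pi.add_apply, hy, hz, smul_add, Finset.sum_add_distrib]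
    | tmul c v => simp [e, T, Matrix.mulVec, dotProduct, Finset.sum_smul, mul_smul]
  rw [← key, hy]
  simp [x, e, Finset.sum_apply, Pi.single_apply]

/-- Finitely presented modules are pure projective. -/
theorem pureProj_of_finitePresentation (P : Type u) [AddCommGroup P] [Module R P] [Module.FinitePresentation R P] :
    PureProj R P := by
  intro L N _ _ _ _ g hg hker φ
  classical
  obtain ⟨m, π, hπ⟩ := Module.Finite.exists_fin' R P
  obtain ⟨n, r, hr⟩ := Submodule.fg_iff_exists_fin_generating_family.1 (Module.FinitePresentation.fg_ker π hπ)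
  choose l hl using fun p => hg (φ (π (Pi.single p 1)))
  let ψ₀ := Fintype.linearCombination R l
  have hψ₀ : g ∘ₗ ψ₀ = φ ∘ₗ π := by
    ext p
    simp [ψ₀, hl]
  have hmem : ∀ j, ψ₀ (r j) ∈ LinearMap.ker g := fun j => by
    have : r j ∈ LinearMap.ker π := hr ▸ Submodule.subset_span ⟨j, rfl⟩
    rw [LinearMap.mem_ker, ← LinearMap.comp_apply, hψ₀, LinearMap.comp_apply, LinearMap.mem_ker.1 this, map_zero]
  obtain ⟨c, hc⟩ := exists_solution hker (fun j p => r j p) (fun j => ⟨_, hmem j⟩) l fun j => by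
    change ψ₀ (r j) = _
    simp [ψ₀, Fintype.linearCombination_apply]
  let ψ₁ := ψ₀ - (LinearMap.ker g).subtype ∘ₗ Fintype.linearCombination R c
  have hle : LinearMap.ker π ≤ LinearMap.ker ψ₁ := by
    rw [← hr, Submodule.span_le]
    rintro _ ⟨j, rfl⟩
    have := congrArg Subtype.val (hc j)
    simp only [SetLike.mem_coe, LinearMap.mem_ker, ψ₁, LinearMap.sub_apply, LinearMap.comp_apply,
      Fintype.linearCombination_apply, Submodule.subtype_apply]
    rw [sub_eq_zero]
    exact this
  refine ⟨Submodule.liftQ _ ψ₁ hle ∘ₗ (π.quotKerEquivOfSurjective hπ).symm.toLinearMap, LinearMap.ext fun y => ?_⟩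
  obtain ⟨v, rfl⟩ := hπ y
  have e : (π.quotKerEquivOfSurjective hπ).symm (π v) = Submodule.Quotient.mk v :=
    (π.quotKerEquivOfSurjective hπ).symm_apply_eq.2 rfl
  rw [LinearMap.comp_apply, LinearMap.comp_apply, LinearEquiv.coe_coe, e, Submodule.liftQ_apply, LinearMap.sub_apply,
    map_sub, ← LinearMap.comp_apply, hψ₀]
  simp

theorem pureProj_dfinsupp {ι : Type u} (Q : ι → Type u) [∀ i, AddCommGroup (Q i)] [∀ i, Module R (Q i)]
    (hQ : ∀ i, PureProj R (Q i)) : PureProj R (Π₀ i, Q i) := by
  intro L N _ _ _ _ g hg hker φ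
  classical
  choose ψ hψ using fun i => hQ i g hg hker (φ ∘ₗ DFinsupp.lsingle i)
  refine ⟨DFinsupp.lsum ℕ ψ, DFinsupp.lhom_ext' fun i => LinearMap.ext fun x => ?_⟩
  simpa using LinearMap.congr_fun (hψ i) x

theorem pureProj_retract {P Q : Type u} [AddCommGroup P] [Module R P] [AddCommGroup Q] [Module R Q]
    (s : P →ₗ[R] Q) (r : Q →ₗ[R] P) (h : r ∘ₗ s = LinearMap.id) (hQ : PureProj R Q) : PureProj R P := by
  intro L N _ _ _ _ g hg hker φ
  obtain ⟨ψ, hψ⟩ := hQ g hg hker (φ ∘ₗ r)
  exact ⟨ψ ∘ₗ s, by rw [← LinearMap.comp_assoc, hψ, LinearMap.comp_assoc, h, LinearMap.comp_id]⟩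

/-- A map through which all maps from finitely presented modules lift has a pure kernel. -/
theorem universallyInjective_ker_of_lift (g : L →ₗ[R] N)
    (hg : ∀ (m : ℕ) (S : Submodule R (Fin m → R)), S.FG → ∀ φ : (Fin m → R) ⧸ S →ₗ[R] N, ∃ ψ, g ∘ₗ ψ = φ) :
    CAlgX.UniversallyInjective R (LinearMap.ker g).subtype := by
  intro Q _ _
  classical
  refine (injective_iff_map_eq_zero _).2 fun z hz => ?_
  obtain ⟨S, rfl⟩ := TensorProduct.exists_finset z
  simp only [map_sum, LinearMap.rTensor_tmul] at hz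
  have hz' : TensorProduct.comm R L Q (∑ x ∈ S, (LinearMap.ker g).subtype x.1 ⊗ₜ[R] x.2) = 0 := by
    rw [hz, map_zero]
  simp only [map_sum, TensorProduct.comm_tmul] at hz'
  let s : Set (Q ⊗[R] L) := {∑ x ∈ S, x.2 ⊗ₜ[R] ((LinearMap.ker g).subtype x.1)}
  suffices key : ∀ (κ : Type u) [Fintype κ] (y : κ → Q) (k : κ → LinearMap.ker g),
      VanishesTrivially R y (fun p => (LinearMap.ker g).subtype (k p)) → ∑ p, k p ⊗ₜ[R] y p = 0 by
    obtain ⟨Q₀, hQ₀, hmem, hsum⟩ : ∃ (Q₀ : Submodule R Q) (_ : Q₀.FG) (hmem : ∀ x ∈ S, x.2 ∈ Q₀),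
        ∑ x : S, (⟨x.1.2, hmem _ x.2⟩ : Q₀) ⊗ₜ[R] ((LinearMap.ker g).subtype x.1.1) = 0 := by
      let v : Submodule R Q := Submodule.span R (Set.range fun x : S => x.1.2)
      have hv : ∀ x : S, x.1.2 ∈ v := fun x => Submodule.subset_span ⟨x, rfl⟩
      let z₀ : v ⊗[R] L := ∑ x : S, (⟨x.1.2, hv x⟩ : v) ⊗ₜ[R] ((LinearMap.ker g).subtype x.1.1)
      have hz₀ : v.subtype.rTensor L z₀ = v.subtype.rTensor L 0 := by
        rw [map_zero, map_sum, ← hz', ← Finset.sum_coe_sort S]
        exact Finset.sum_congr rfl fun x _ => LinearMap.rTensor_tmul _ _ _ _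
      obtain ⟨Q₀, hle, hQ₀, heq⟩ :=
        TensorProduct.eq_of_fg_of_subtype_eq (Submodule.fg_span (Set.finite_range _)) hz₀
      rw [map_zero, map_sum] at heq
      refine ⟨Q₀, hQ₀, fun x hx => hle (hv ⟨x, hx⟩), ?_⟩
      rw [← heq]
      refine Finset.sum_congr rfl fun x _ => ?_
      rw [LinearMap.rTensor_tmul]
      rfl
    obtain ⟨d, w, hw⟩ := Submodule.fg_iff_exists_fin_generating_family.1 hQ₀
    have hwmem : ∀ p, w p ∈ Q₀ := fun p => hw ▸ Submodule.subset_span ⟨p, rfl⟩
    let y : (S ⊕ ULift.{u} (Fin d)) → Q₀ :=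
      Sum.elim (fun x => ⟨x.1.2, hmem _ x.2⟩) fun p => ⟨w p.down, hwmem _⟩
    let k : (S ⊕ ULift.{u} (Fin d)) → LinearMap.ker g := Sum.elim (fun x => x.1.1) 0
    have hy : Submodule.span R (Set.range y) = ⊤ := by
      rw [eq_top_iff]
      refine le_trans ?_ (Submodule.span_mono (Set.range_comp_subset_range Sum.inr y))
      refine le_of_eq (Submodule.map_injective_of_injective Q₀.injective_subtype ?_).symm
      rw [Submodule.map_span, ← Set.range_comp, Submodule.map_subtype_top]
      refine Eq.trans (congrArg _ ?_) hw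
      ext
      simp [y]
    have hvan := TensorProduct.vanishesTrivially_of_sum_tmul_eq_zero R (m := y)
      (n := fun p => (LinearMap.ker g).subtype (k p)) hy (by simpa [Fintype.sum_sum_type, y, k] using hsum)
    obtain ⟨d', a, b, h₁, h₂⟩ := hvan
    have h0 := key _ (fun p => (y p : Q)) k ⟨d', a, b, h₁, fun j => by simpa using congrArg Q₀.subtype (h₂ j)⟩
    simp only [Fintype.sum_sum_type, y, k, Sum.elim_inl, Sum.elim_inr, Pi.zero_apply, TensorProduct.zero_tmul,
      Finset.sum_const_zero, add_zero] at h0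
    exact (Finset.sum_coe_sort S _).symm.trans h0
  intro κ _ y k hvan
  obtain ⟨d, a, l, h₁, h₂⟩ := hvan
  let rel : κ → Fin d → R := fun p j => a p j
  let S' : Submodule R (Fin d → R) := Submodule.span R (Set.range rel)
  have hle : S' ≤ LinearMap.ker (Fintype.linearCombination R fun j => g (l j)) := by
    rw [Submodule.span_le]
    rintro _ ⟨p, rfl⟩
    simp only [SetLike.mem_coe, LinearMap.mem_ker, Fintype.linearCombination_apply, rel, ← map_smul, ← map_sum, ← h₁]
    exact (k p).2
  obtain ⟨ψ, hψ⟩ := hg d S' (Submodule.fg_span (Set.finite_range _)) (S'.liftQ _ hle)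
  have hc : ∀ j, l j - ψ (Submodule.Quotient.mk (Pi.single j 1)) ∈ LinearMap.ker g := fun j => by
    rw [LinearMap.mem_ker, map_sub, ← LinearMap.comp_apply, hψ, Submodule.liftQ_apply]
    simp
  let c : Fin d → LinearMap.ker g := fun j => ⟨_, hc j⟩
  have hk : ∀ p, k p = ∑ j, a p j • c j := fun p => by
    refine Subtype.ext ?_
    have h := h₁ p
    simp only [Submodule.subtype_apply] at h
    simp only [Submodule.coe_sum, Submodule.coe_smul, c, smul_sub, Finset.sum_sub_distrib, ← h]
    rw [eq_comm, sub_eq_self]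
    simp_rw [← map_smul, ← map_sum, ← Submodule.Quotient.mk_smul, ← Submodule.mkQ_apply, ← map_sum]
    rw [Submodule.mkQ_apply, (Submodule.Quotient.mk_eq_zero S').2, map_zero]
    refine Submodule.subset_span ⟨p, ?_⟩
    ext j
    simp [rel, Finset.sum_apply, Pi.single_apply]
  simp_rw [hk, TensorProduct.sum_tmul, TensorProduct.smul_tmul]
  rw [Finset.sum_comm]
  simp_rw [← TensorProduct.tmul_sum, h₂, TensorProduct.tmul_zero, Finset.sum_const_zero]

/-- The index of the canonical pure cover. -/
abbrev CoverIdx (R : Type u) [CommRing R] (M : Type u) [AddCommGroup M] [Module R M] : Type u :=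
  Σ n : ℕ, Σ s : Finset (Fin n → R), {x : Fin n → M // ∀ r ∈ s, ∑ p, r p • x p = 0}

variable {M : Type u} [AddCommGroup M] [Module R M]

/-- A member of the canonical pure cover. -/
def CoverPart (i : CoverIdx R M) : Type u := (Fin i.1 → R) ⧸ Submodule.span R (i.2.1 : Set (Fin i.1 → R))

instance (i : CoverIdx R M) : AddCommGroup (CoverPart i) :=
  inferInstanceAs (AddCommGroup ((Fin i.1 → R) ⧸ Submodule.span R (i.2.1 : Set (Fin i.1 → R))))

instance (i : CoverIdx R M) : Module R (CoverPart i) :=
  inferInstanceAs (Module R ((Fin i.1 → R) ⧸ Submodule.span R (i.2.1 : Set (Fin i.1 → R))))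

/-- The map on a member of the canonical pure cover. -/
noncomputable def coverPartHom (i : CoverIdx R M) : CoverPart i →ₗ[R] M :=
  Submodule.liftQ _ (Fintype.linearCombination R i.2.2.1) (by
    rw [Submodule.span_le]
    intro r hr
    simpa [Fintype.linearCombination_apply] using i.2.2.2 r hr)

variable (R M) in
/-- The canonical pure cover. -/
noncomputable def coverHom : (Π₀ i : CoverIdx R M, CoverPart i) →ₗ[R] M := by
  classical exact DFinsupp.lsum ℕ coverPartHom

theorem coverHom_lsingle [DecidableEq (CoverIdx R M)] (i : CoverIdx R M) :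
    coverHom R M ∘ₗ DFinsupp.lsingle i = coverPartHom i := by
  refine LinearMap.ext fun x => ?_
  rw [LinearMap.comp_apply, DFinsupp.lsingle_apply, coverHom]
  convert DFinsupp.lsum_single ℕ coverPartHom i x

theorem fp_coverPart (i : CoverIdx R M) : Module.FinitePresentation R (CoverPart i) :=
  (Module.finitePresentation_of_surjective (Submodule.mkQ _) (Submodule.mkQ_surjective _) (by
    rw [Submodule.ker_mkQ]
    exact Submodule.fg_span (Finset.finite_toSet _)) :
    Module.FinitePresentation R ((Fin i.1 → R) ⧸ Submodule.span R (i.2.1 : Set (Fin i.1 → R))))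

theorem coverHom_surjective (M : Type u) [AddCommGroup M] [Module R M] : Function.Surjective (coverHom R M) := fun x => by
  classical
  let i : CoverIdx R M := ⟨1, ∅, ⟨fun _ => x, fun r hr => absurd hr (Finset.notMem_empty r)⟩⟩
  refine ⟨DFinsupp.lsingle (R := R) (M := fun i : CoverIdx R M => CoverPart i) i
    (Submodule.Quotient.mk (Pi.single 0 1) : (Fin i.1 → R) ⧸ Submodule.span R (i.2.1 : Set (Fin i.1 → R))), ?_⟩
  exact (LinearMap.congr_fun (coverHom_lsingle i) _).trans
    (show Fintype.linearCombination R i.2.2.1 (Pi.single 0 1) = x from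
      (Fintype.linearCombination_apply_single R _ _ _).trans (one_smul R x))

theorem universallyInjective_ker_coverHom : CAlgX.UniversallyInjective R (LinearMap.ker (coverHom R M)).subtype := by
  classical
  refine universallyInjective_ker_of_lift _ fun m S hS φ => ?_
  obtain ⟨s, rfl⟩ := hS
  let i : CoverIdx R M := ⟨m, s, ⟨fun p => φ (Submodule.Quotient.mk (Pi.single p 1)), fun r hr => by
    simp_rw [← map_smul, ← map_sum, ← Submodule.Quotient.mk_smul, ← Submodule.mkQ_apply, ← map_sum]
    rw [Submodule.mkQ_apply, (Submodule.Quotient.mk_eq_zero _).2, map_zero]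
    have : ∑ p, r p • Pi.single p (1 : R) = r := by ext; simp [Finset.sum_apply, Pi.single_apply]
    rw [this]
    exact Submodule.subset_span hr⟩⟩
  refine ⟨(DFinsupp.lsingle (R := R) (M := fun i : CoverIdx R M => CoverPart i) i : _ →ₗ[R] _), ?_⟩
  refine Eq.trans (coverHom_lsingle i) ?_
  refine Submodule.linearMap_qext _ ?_
  ext p
  simp [coverPartHom, i]

end PureExtLib
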