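import Groth.Agent.PureExtLib.Basic
import Mathlib.Algebra.Category.ModuleCat.Monoidal.Basic
import Mathlib.Algebra.Category.ModuleCat.Abelian
import Mathlib.Algebra.Homology.ShortComplex.ModuleCat
import Mathlib.Algebra.Homology.Single
import Mathlib.Algebra.Homology.QuasiIso
import Mathlib.Algebra.Homology.Additive

/-!
Universally exact resolutions as complexes.
-/

set_option autoImplicit false
set_option maxHeartbeats 800000
universe u

open CategoryTheory CategoryTheory.Limits TensorProduct

namespace PureExtLib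

variable {R : Type u} [CommRing R] {M : ModuleCat.{u} R}

noncomputable section

/-- The functor tensoring on the right, on complexes. -/
abbrev tensC {ι : Type} (c : ComplexShape ι) (T : ModuleCat.{u} R) :
    HomologicalComplex (ModuleCat.{u} R) c ⥤ HomologicalComplex (ModuleCat.{u} R) c :=
  (MonoidalCategory.tensorRight T).mapHomologicalComplex c

theorem single_exactAt {ι : Type} [DecidableEq ι] (c : ComplexShape ι) (j i : ι) (h : i ≠ j) (T : ModuleCat.{u} R) :
    ((tensC c T).obj ((HomologicalComplex.single (ModuleCat.{u} R) c j).obj M)).ExactAt i := by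
  rw [HomologicalComplex.exactAt_iff]
  exact ShortComplex.exact_of_isZero_X₂ _
    ((MonoidalCategory.tensorRight T).map_isZero (HomologicalComplex.isZero_single_obj_X c j M i h))

section chain

variable (P : ChainComplex (ModuleCat.{u} R) ℕ) (π : P ⟶ (ChainComplex.single₀ (ModuleCat.{u} R)).obj M)

/-- The augmentation of a chain complex. -/
abbrev aug : P.X 0 →ₗ[R] M := (π.f 0).hom

theorem aug_comp : aug P π ∘ₗ (P.d 1 0).hom = 0 := by
  have h : P.d 1 0 ≫ π.f 0 = 0 :=
    ((π.comm 1 0).symm).trans ((congrArg (π.f 1 ≫ ·) (HomologicalComplex.single_obj_d _ _ _ 1 0)).trans comp_zero)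
  exact congrArg ModuleCat.Hom.hom h

theorem quasiIsoAt_succ_iff (n : ℕ) (T : ModuleCat.{u} R) :
    QuasiIsoAt ((tensC (ComplexShape.down ℕ) T).map π) (n + 1) ↔
      Function.Exact ((P.d (n + 2) (n + 1)).hom.rTensor T) ((P.d (n + 1) n).hom.rTensor T) := by
  rw [quasiIsoAt_iff_exactAt' _ _ (single_exactAt _ 0 (n + 1) (Nat.succ_ne_zero n) T),
    HomologicalComplex.exactAt_iff' _ (n + 2) (n + 1) n (by simp) (by simp),
    ShortComplex.ShortExact.moduleCat_exact_iff_function_exact]
  exact Iff.rfl

theorem quasiIsoAt_zero_iff (T : ModuleCat.{u} R) :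
    QuasiIsoAt ((tensC (ComplexShape.down ℕ) T).map π) 0 ↔
      Function.Exact ((P.d 1 0).hom.rTensor T) ((aug P π).rTensor T) ∧ Function.Surjective ((aug P π).rTensor T) := by
  rw [ChainComplex.quasiIsoAt₀_iff, ShortComplex.quasiIso_iff_of_zeros', ShortComplex.ShortExact.moduleCat_exact_iff_function_exact,
    ModuleCat.epi_iff_surjective]
  · exact Iff.rfl
  · exact ((MonoidalCategory.tensorRight T).congr_map (P.shape 0 0 (by simp))).trans (Functor.map_zero _ _ _)
  · exact ((MonoidalCategory.tensorRight T).congr_map (HomologicalComplex.single_obj_d _ _ _ 1 0)).trans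
      (Functor.map_zero _ _ _)
  · exact ((MonoidalCategory.tensorRight T).congr_map (HomologicalComplex.single_obj_d _ _ _ 0 0)).trans
      (Functor.map_zero _ _ _)

/-- A universally exact augmented chain complex. -/
structure ChainUE : Prop where
  exact : ∀ (n : ℕ) (Q : Type u) [AddCommGroup Q] [Module R Q],
    Function.Exact ((P.d (n + 2) (n + 1)).hom.rTensor Q) ((P.d (n + 1) n).hom.rTensor Q)
  exact₀ : ∀ (Q : Type u) [AddCommGroup Q] [Module R Q],
    Function.Exact ((P.d 1 0).hom.rTensor Q) ((aug P π).rTensor Q)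
  surj : ∀ (Q : Type u) [AddCommGroup Q] [Module R Q], Function.Surjective ((aug P π).rTensor Q)

theorem chainUE_iff : ChainUE P π ↔ ∀ T : ModuleCat.{u} R, QuasiIso ((tensC (ComplexShape.down ℕ) T).map π) := by
  refine ⟨fun h T => ⟨fun n => ?_⟩, fun h => ⟨fun n Q _ _ => ?_, fun Q _ _ => ?_, fun Q _ _ => ?_⟩⟩
  · cases n with
    | zero => exact (quasiIsoAt_zero_iff P π T).2 ⟨h.exact₀ T, h.surj T⟩
    | succ n => exact (quasiIsoAt_succ_iff P π n T).2 (h.exact n T)
  · have := h (ModuleCat.of R Q)
    exact (quasiIsoAt_succ_iff P π n (ModuleCat.of R Q)).1 inferInstance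
  · have := h (ModuleCat.of R Q)
    exact ((quasiIsoAt_zero_iff P π (ModuleCat.of R Q)).1 inferInstance).1
  · have := h (ModuleCat.of R Q)
    exact ((quasiIsoAt_zero_iff P π (ModuleCat.of R Q)).1 inferInstance).2

end chain

section cochain

variable (I : CochainComplex (ModuleCat.{u} R) ℕ) (η : (CochainComplex.single₀ (ModuleCat.{u} R)).obj M ⟶ I)

/-- The coaugmentation of a cochain complex. -/
abbrev coaug : M →ₗ[R] I.X 0 := (η.f 0).hom

theorem coaug_comp : (I.d 0 1).hom ∘ₗ coaug I η = 0 := by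
  have h : η.f 0 ≫ I.d 0 1 = 0 :=
    (η.comm 0 1).trans ((congrArg (· ≫ η.f 1) (HomologicalComplex.single_obj_d _ _ _ 0 1)).trans zero_comp)
  exact congrArg ModuleCat.Hom.hom h

theorem quasiIsoAt_succ_iff' (n : ℕ) (T : ModuleCat.{u} R) :
    QuasiIsoAt ((tensC (ComplexShape.up ℕ) T).map η) (n + 1) ↔
      Function.Exact ((I.d n (n + 1)).hom.rTensor T) ((I.d (n + 1) (n + 2)).hom.rTensor T) := by
  rw [quasiIsoAt_iff_exactAt _ _ (single_exactAt _ 0 (n + 1) (Nat.succ_ne_zero n) T),
    HomologicalComplex.exactAt_iff' _ n (n + 1) (n + 2) (by simp) (by simp),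
    ShortComplex.ShortExact.moduleCat_exact_iff_function_exact]
  exact Iff.rfl

theorem quasiIsoAt_zero_iff' (T : ModuleCat.{u} R) :
    QuasiIsoAt ((tensC (ComplexShape.up ℕ) T).map η) 0 ↔
      Function.Exact ((coaug I η).rTensor T) ((I.d 0 1).hom.rTensor T) ∧ Function.Injective ((coaug I η).rTensor T) := by
  rw [CochainComplex.quasiIsoAt₀_iff, ShortComplex.quasiIso_iff_of_zeros, ShortComplex.ShortExact.moduleCat_exact_iff_function_exact,
    ModuleCat.mono_iff_injective]
  · exact Iff.rfl
  · exact ((MonoidalCategory.tensorRight T).congr_map (HomologicalComplex.single_obj_d _ _ _ 0 0)).trans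
      (Functor.map_zero _ _ _)
  · exact ((MonoidalCategory.tensorRight T).congr_map (HomologicalComplex.single_obj_d _ _ _ 0 1)).trans
      (Functor.map_zero _ _ _)
  · exact ((MonoidalCategory.tensorRight T).congr_map (I.shape 0 0 (by simp))).trans (Functor.map_zero _ _ _)

/-- A universally exact coaugmented cochain complex. -/
structure CochainUE : Prop where
  exact : ∀ (n : ℕ) (Q : Type u) [AddCommGroup Q] [Module R Q],
    Function.Exact ((I.d n (n + 1)).hom.rTensor Q) ((I.d (n + 1) (n + 2)).hom.rTensor Q)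
  exact₀ : ∀ (Q : Type u) [AddCommGroup Q] [Module R Q],
    Function.Exact ((coaug I η).rTensor Q) ((I.d 0 1).hom.rTensor Q)
  inj : ∀ (Q : Type u) [AddCommGroup Q] [Module R Q], Function.Injective ((coaug I η).rTensor Q)

theorem cochainUE_iff : CochainUE I η ↔ ∀ T : ModuleCat.{u} R, QuasiIso ((tensC (ComplexShape.up ℕ) T).map η) := by
  refine ⟨fun h T => ⟨fun n => ?_⟩, fun h => ⟨fun n Q _ _ => ?_, fun Q _ _ => ?_, fun Q _ _ => ?_⟩⟩
  · cases n with
    | zero => exact (quasiIsoAt_zero_iff' I η T).2 ⟨h.exact₀ T, h.inj T⟩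
    | succ n => exact (quasiIsoAt_succ_iff' I η n T).2 (h.exact n T)
  · have := h (ModuleCat.of R Q)
    exact (quasiIsoAt_succ_iff' I η n (ModuleCat.of R Q)).1 inferInstance
  · have := h (ModuleCat.of R Q)
    exact ((quasiIsoAt_zero_iff' I η (ModuleCat.of R Q)).1 inferInstance).1
  · have := h (ModuleCat.of R Q)
    exact ((quasiIsoAt_zero_iff' I η (ModuleCat.of R Q)).1 inferInstance).2

end cochain

end

end PureExtLib
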