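import Groth.Agent.PureExtLib.Complex
import Groth.Agent.S8773
import Mathlib.Algebra.Homology.Homotopy

/-!
Comparison maps between universally exact resolutions.
-/

set_option autoImplicit false
set_option maxHeartbeats 800000
universe u

open CategoryTheory CategoryTheory.Limits TensorProduct

namespace PureExtLib

variable {R : Type u} [CommRing R]

/-- The extension property along universally injective maps. -/
def PureInj (R : Type u) [CommRing R] (I : Type u) [AddCommGroup I] [Module R I] : Prop :=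
  ∀ ⦃K L : Type u⦄ [AddCommGroup K] [Module R K] [AddCommGroup L] [Module R L] (g : K →ₗ[R] L),
    CAlgX.UniversallyInjective R g → ∀ φ : K →ₗ[R] I, ∃ ψ : L →ₗ[R] I, ψ ∘ₗ g = φ

theorem ui_of_eq {L : Type u} [AddCommGroup L] [Module R L] {p q : Submodule R L} (h : p = q)
    (hp : CAlgX.UniversallyInjective R p.subtype) : CAlgX.UniversallyInjective R q.subtype := h ▸ hp

variable {A B C X : Type u} [AddCommGroup A] [Module R A] [AddCommGroup B] [Module R B] [AddCommGroup C] [Module R C]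
  [AddCommGroup X] [Module R X]

theorem exact_of_rTensor {g : A →ₗ[R] B} {h : B →ₗ[R] C} (H : Function.Exact (g.rTensor R) (h.rTensor R)) :
    Function.Exact g h := by
  intro b
  constructor
  · intro hb
    obtain ⟨a, ha⟩ := (H (b ⊗ₜ[R] (1 : R))).1 (by rw [LinearMap.rTensor_tmul, hb, TensorProduct.zero_tmul])
    refine ⟨TensorProduct.rid R A a, ?_⟩
    have : ∀ w, g (TensorProduct.rid R A w) = TensorProduct.rid R B (g.rTensor R w) := fun w => by
      induction w using TensorProduct.induction_on with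
      | zero => simp
      | tmul x r => simp
      | add x y hx hy => simp only [map_add, hx, hy]
    rw [this, ha]
    simp
  · rintro ⟨a, rfl⟩
    have := H.apply_apply_eq_zero (a ⊗ₜ[R] (1 : R))
    simpa using congrArg (TensorProduct.rid R C) this

theorem surjective_of_rTensor {g : A →ₗ[R] B} (H : Function.Surjective (g.rTensor R)) : Function.Surjective g := by
  intro b
  obtain ⟨a, ha⟩ := H (b ⊗ₜ[R] (1 : R))
  refine ⟨TensorProduct.rid R A a, ?_⟩
  have : ∀ w, g (TensorProduct.rid R A w) = TensorProduct.rid R B (g.rTensor R w) := fun w => by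
    induction w using TensorProduct.induction_on with
    | zero => simp
    | tmul x r => simp
    | add x y hx hy => simp only [map_add, hx, hy]
  rw [this, ha]
  simp

theorem ui_ker {f : X →ₗ[R] A} {g : A →ₗ[R] B} {W : Type u} [AddCommGroup W] [Module R W] {e : W →ₗ[R] X}
    (h₁ : ∀ (Q : Type u) [AddCommGroup Q] [Module R Q], Function.Exact (e.rTensor Q) (f.rTensor Q))
    (h₂ : Function.Exact (f.rTensor R) (g.rTensor R)) :
    CAlgX.UniversallyInjective R (LinearMap.ker g).subtype :=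
  ui_of_eq (LinearMap.exact_iff.1 (exact_of_rTensor h₂)).symm (Groth.Agent.S8773.result R e f h₁)

theorem exists_lift {P : Type u} [AddCommGroup P] [Module R P] (hP : PureProj R P) {g : A →ₗ[R] B} {h : B →ₗ[R] C}
    (hex : Function.Exact g h) (hker : CAlgX.UniversallyInjective R (LinearMap.ker g).subtype) (φ : P →ₗ[R] B)
    (hφ : h ∘ₗ φ = 0) : ∃ ψ : P →ₗ[R] A, g ∘ₗ ψ = φ := by
  let φ' : P →ₗ[R] LinearMap.range g := φ.codRestrict _ fun x => (hex (φ x)).1 (LinearMap.congr_fun hφ x)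
  obtain ⟨ψ, hψ⟩ := hP g.rangeRestrict g.surjective_rangeRestrict
    (ui_of_eq (LinearMap.ker_rangeRestrict g).symm hker) φ'
  exact ⟨ψ, LinearMap.ext fun x => congrArg Subtype.val (LinearMap.congr_fun hψ x)⟩

theorem exists_extend (hX : PureInj R X) {g : A →ₗ[R] B} {h : B →ₗ[R] C} (hex : Function.Exact g h)
    (hrange : CAlgX.UniversallyInjective R (LinearMap.range h).subtype) (φ : B →ₗ[R] X) (hφ : φ ∘ₗ g = 0) :
    ∃ ψ : C →ₗ[R] X, ψ ∘ₗ h = φ := by
  have hle : LinearMap.ker h ≤ LinearMap.ker φ := fun b hb => by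
    obtain ⟨a, rfl⟩ := (hex b).1 hb
    exact LinearMap.congr_fun hφ a
  obtain ⟨ψ, hψ⟩ := hX _ hrange ((LinearMap.ker h).liftQ φ hle ∘ₗ h.quotKerEquivRange.symm.toLinearMap)
  refine ⟨ψ, LinearMap.ext fun b => ?_⟩
  refine (LinearMap.congr_fun hψ ⟨h b, b, rfl⟩).trans ?_
  rw [LinearMap.comp_apply, LinearEquiv.coe_coe,
    show h.quotKerEquivRange.symm ⟨h b, b, rfl⟩ = Submodule.Quotient.mk b from
      h.quotKerEquivRange_symm_apply_image b ⟨b, rfl⟩]
  rfl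

noncomputable section

variable {M N : ModuleCat.{u} R}

theorem ofHom_comp_eq {U V W : ModuleCat.{u} R} {g : V ⟶ W} {φ : U ⟶ W} {ψ : U →ₗ[R] V} (h : g.hom ∘ₗ ψ = φ.hom) :
    ModuleCat.ofHom ψ ≫ g = φ := ModuleCat.hom_ext h

section chain

variable (P N' : ChainComplex (ModuleCat.{u} R) ℕ) (π : P ⟶ (ChainComplex.single₀ (ModuleCat.{u} R)).obj M)
  (ε : N' ⟶ (ChainComplex.single₀ (ModuleCat.{u} R)).obj N) (hP : ∀ n, PureProj R (P.X n)) (hN : ChainUE N' ε)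

include hP hN

theorem chain_lift (n k : ℕ) (φ : P.X k ⟶ N'.X (n + 1)) (hφ : φ ≫ N'.d (n + 1) n = 0) :
    ∃ ψ : P.X k ⟶ N'.X (n + 2), ψ ≫ N'.d (n + 2) (n + 1) = φ := by
  obtain ⟨ψ, hψ⟩ := exists_lift (hP k) (exact_of_rTensor (hN.exact n R))
    (ui_ker (hN.exact (n + 2)) (hN.exact (n + 1) R)) φ.hom (congrArg ModuleCat.Hom.hom hφ)
  exact ⟨ModuleCat.ofHom ψ, ofHom_comp_eq hψ⟩

theorem chain_lift₀ (k : ℕ) (φ : P.X k ⟶ N'.X 0) (hφ : φ ≫ ε.f 0 = 0) :
    ∃ ψ : P.X k ⟶ N'.X 1, ψ ≫ N'.d 1 0 = φ := by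
  obtain ⟨ψ, hψ⟩ := exists_lift (hP k) (exact_of_rTensor (hN.exact₀ R))
    (ui_ker (hN.exact 1) (hN.exact 0 R)) φ.hom (congrArg ModuleCat.Hom.hom hφ)
  exact ⟨ModuleCat.ofHom ψ, ofHom_comp_eq hψ⟩

theorem chain_lift_aug (φ : P.X 0 ⟶ N) : ∃ ψ : P.X 0 ⟶ N'.X 0, ψ ≫ ε.f 0 = φ := by
  obtain ⟨ψ, hψ⟩ := hP 0 (aug N' ε) (surjective_of_rTensor (hN.surj R))
    (ui_ker (hN.exact 0) (hN.exact₀ R)) φ.hom
  exact ⟨ModuleCat.ofHom ψ, ofHom_comp_eq hψ⟩

theorem exists_chainMap (f : M ⟶ N) :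
    ∃ φ : P ⟶ N', φ ≫ ε = π ≫ (ChainComplex.single₀ (ModuleCat.{u} R)).map f := by
  obtain ⟨z, hz⟩ := chain_lift_aug P N' ε hP hN (π.f 0 ≫ f)
  have hd : P.d 1 0 ≫ π.f 0 = 0 := ModuleCat.hom_ext (aug_comp P π)
  obtain ⟨o, ho⟩ := chain_lift₀ P N' ε hP hN 1 (P.d 1 0 ≫ z) (by
    rw [Category.assoc, hz]
    exact (Category.assoc _ _ _).symm.trans ((congrArg (· ≫ f) hd).trans zero_comp))
  refine ⟨ChainComplex.mkHom P N' z o ho fun n p =>
    ⟨(chain_lift P N' ε hP hN n (n + 2) (P.d (n + 2) (n + 1) ≫ p.2.1) (by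
      rw [Category.assoc, p.2.2, HomologicalComplex.d_comp_d_assoc, zero_comp])).choose,
     (chain_lift P N' ε hP hN n (n + 2) (P.d (n + 2) (n + 1) ≫ p.2.1) (by
      rw [Category.assoc, p.2.2, HomologicalComplex.d_comp_d_assoc, zero_comp])).choose_spec⟩,
    HomologicalComplex.to_single_hom_ext ?_⟩
  rw [HomologicalComplex.comp_f, ChainComplex.mkHom_f_0, HomologicalComplex.comp_f, ChainComplex.single₀_map_f_zero]
  exact hz

theorem homotopy_zero (e : P ⟶ N') (he : e ≫ ε = 0) : Nonempty (Homotopy e 0) := by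
  obtain ⟨z, hz⟩ := chain_lift₀ P N' ε hP hN 0 (e.f 0)
    ((HomologicalComplex.comp_f e ε 0).symm.trans (by rw [he, HomologicalComplex.zero_f]))
  obtain ⟨o, ho⟩ := chain_lift P N' ε hP hN 0 1 (e.f 1 - P.d 1 0 ≫ z) (by
    rw [Preadditive.sub_comp, Category.assoc, hz, e.comm, sub_self])
  have step : ∀ (n : ℕ) (p : Σ' (f : P.X n ⟶ N'.X (n + 1)) (f' : P.X (n + 1) ⟶ N'.X (n + 2)),
      e.f (n + 1) = P.d (n + 1) n ≫ f + f' ≫ N'.d (n + 2) (n + 1)),
      ∃ f'' : P.X (n + 2) ⟶ N'.X (n + 3),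
        f'' ≫ N'.d (n + 3) (n + 2) = e.f (n + 2) - P.d (n + 2) (n + 1) ≫ p.2.1 := fun n p => by
    obtain ⟨f₀, f₁, hf⟩ := p
    dsimp only
    refine chain_lift P N' ε hP hN (n + 1) (n + 2) _ ?_
    rw [Preadditive.sub_comp, Category.assoc, e.comm, hf, Preadditive.comp_add,
      HomologicalComplex.d_comp_d_assoc, zero_comp, zero_add, sub_self]
  exact ⟨Homotopy.mkInductive e z hz.symm o (by rw [ho, add_sub_cancel])
    fun n p => ⟨(step n p).choose, by rw [(step n p).choose_spec, add_sub_cancel]⟩⟩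

end chain

section cochain

variable (M' I : CochainComplex (ModuleCat.{u} R) ℕ) (η : (CochainComplex.single₀ (ModuleCat.{u} R)).obj M ⟶ M')
  (ε : (CochainComplex.single₀ (ModuleCat.{u} R)).obj N ⟶ I) (hM : CochainUE M' η) (hI : ∀ n, PureInj R (I.X n))

include hM hI

theorem cochain_extend (n k : ℕ) (φ : M'.X (n + 1) ⟶ I.X k) (hφ : M'.d n (n + 1) ≫ φ = 0) :
    ∃ ψ : M'.X (n + 2) ⟶ I.X k, M'.d (n + 1) (n + 2) ≫ ψ = φ := by
  obtain ⟨ψ, hψ⟩ := exists_extend (hI k) (exact_of_rTensor (hM.exact n R))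
    (Groth.Agent.S8773.result R (M'.d n (n + 1)).hom (M'.d (n + 1) (n + 2)).hom (hM.exact n)) φ.hom
    (congrArg ModuleCat.Hom.hom hφ)
  exact ⟨ModuleCat.ofHom ψ, ModuleCat.hom_ext hψ⟩

theorem cochain_extend₀ (k : ℕ) (φ : M'.X 0 ⟶ I.X k) (hφ : η.f 0 ≫ φ = 0) :
    ∃ ψ : M'.X 1 ⟶ I.X k, M'.d 0 1 ≫ ψ = φ := by
  obtain ⟨ψ, hψ⟩ := exists_extend (hI k) (exact_of_rTensor (hM.exact₀ R))
    (Groth.Agent.S8773.result R (coaug M' η) (M'.d 0 1).hom hM.exact₀) φ.hom (congrArg ModuleCat.Hom.hom hφ)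
  exact ⟨ModuleCat.ofHom ψ, ModuleCat.hom_ext hψ⟩

theorem cochain_extend_aug (φ : M ⟶ I.X 0) : ∃ ψ : M'.X 0 ⟶ I.X 0, η.f 0 ≫ ψ = φ := by
  obtain ⟨ψ, hψ⟩ := hI 0 (coaug M' η) hM.inj φ.hom
  exact ⟨ModuleCat.ofHom ψ, ModuleCat.hom_ext hψ⟩

theorem exists_cochainMap (f : M ⟶ N) :
    ∃ φ : M' ⟶ I, η ≫ φ = (CochainComplex.single₀ (ModuleCat.{u} R)).map f ≫ ε := by
  obtain ⟨z, hz⟩ := cochain_extend_aug M' I η hM hI (f ≫ ε.f 0)
  have hd : ε.f 0 ≫ I.d 0 1 = 0 := ModuleCat.hom_ext (coaug_comp I ε)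
  obtain ⟨o, ho⟩ := cochain_extend₀ M' I η hM hI 1 (z ≫ I.d 0 1) (by
    rw [← Category.assoc, hz]
    exact (Category.assoc _ _ _).trans ((congrArg (f ≫ ·) hd).trans comp_zero))
  have step : ∀ (n : ℕ) (p : Σ' (f : M'.X n ⟶ I.X n) (f' : M'.X (n + 1) ⟶ I.X (n + 1)),
      f ≫ I.d n (n + 1) = M'.d n (n + 1) ≫ f'),
      ∃ f'' : M'.X (n + 2) ⟶ I.X (n + 2), M'.d (n + 1) (n + 2) ≫ f'' = p.2.1 ≫ I.d (n + 1) (n + 2) := fun n p => by
    refine cochain_extend M' I η hM hI n (n + 2) _ ?_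
    rw [← Category.assoc, ← p.2.2, Category.assoc, HomologicalComplex.d_comp_d, comp_zero]
  refine ⟨CochainComplex.mkHom M' I z o ho.symm fun n p => ⟨(step n p).choose, (step n p).choose_spec.symm⟩,
    HomologicalComplex.from_single_hom_ext ?_⟩
  rw [HomologicalComplex.comp_f, CochainComplex.mkHom_f_0, HomologicalComplex.comp_f, CochainComplex.single₀_map_f_zero]
  exact hz

theorem cohomotopy_zero (e : M' ⟶ I) (he : η ≫ e = 0) : Nonempty (Homotopy e 0) := by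
  obtain ⟨z, hz⟩ := cochain_extend₀ M' I η hM hI 0 (e.f 0)
    ((HomologicalComplex.comp_f η e 0).symm.trans (by rw [he, HomologicalComplex.zero_f]))
  obtain ⟨o, ho⟩ := cochain_extend M' I η hM hI 0 1 (e.f 1 - z ≫ I.d 0 1) (by
    rw [Preadditive.comp_sub, ← Category.assoc, hz, ← e.comm, sub_self])
  have step : ∀ (n : ℕ) (p : Σ' (f : M'.X (n + 1) ⟶ I.X n) (f' : M'.X (n + 2) ⟶ I.X (n + 1)),
      e.f (n + 1) = f ≫ I.d n (n + 1) + M'.d (n + 1) (n + 2) ≫ f'),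
      ∃ f'' : M'.X (n + 3) ⟶ I.X (n + 2),
        M'.d (n + 2) (n + 3) ≫ f'' = e.f (n + 2) - p.2.1 ≫ I.d (n + 1) (n + 2) := fun n p => by
    obtain ⟨f₀, f₁, hf⟩ := p
    dsimp only
    refine cochain_extend M' I η hM hI (n + 1) (n + 2) _ ?_
    rw [Preadditive.comp_sub, ← Category.assoc, ← e.comm, hf, Preadditive.add_comp, Category.assoc,
      HomologicalComplex.d_comp_d, comp_zero, zero_add, sub_self]
  exact ⟨Homotopy.mkCoinductive e z hz.symm o (by rw [ho, add_sub_cancel])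
    fun n p => ⟨(step n p).choose, by rw [(step n p).choose_spec, add_sub_cancel]⟩⟩

end cochain

end

end PureExtLib
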