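import Groth.Agent.PureExtLib.Maps
import Groth.Agent.S8771
import Groth.Agent.S8772

/-!
Existence of pure projective and pure injective resolutions.
-/

set_option autoImplicit false
set_option maxHeartbeats 800000
universe u

open CategoryTheory CategoryTheory.Limits TensorProduct

namespace PureExtLib

variable {R : Type u} [CommRing R]

/-- Exactness of spliced universally exact sequences after tensoring. -/
theorem exact_glue {A B C D E : Type u} [AddCommGroup A] [Module R A] [AddCommGroup B] [Module R B] [AddCommGroup C]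
    [Module R C] [AddCommGroup D] [Module R D] [AddCommGroup E] [Module R E] (p : A →ₗ[R] B) (i : B →ₗ[R] C)
    (c : C →ₗ[R] E) (j : E →ₗ[R] D) (hp : Function.Surjective p) (hic : Function.Exact i c) (hc : Function.Surjective c)
    (hj : CAlgX.UniversallyInjective R j) (Q : Type u) [AddCommGroup Q] [Module R Q] :
    Function.Exact ((i ∘ₗ p).rTensor Q) ((j ∘ₗ c).rTensor Q) := by
  have h := rTensor_exact Q hic hc
  intro x
  rw [LinearMap.rTensor_comp, LinearMap.rTensor_comp, LinearMap.comp_apply]
  constructor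
  · intro hx
    obtain ⟨y, rfl⟩ := (h x).1 (hj Q (hx.trans (map_zero _).symm))
    obtain ⟨a, rfl⟩ := LinearMap.rTensor_surjective Q hp y
    exact ⟨a, rfl⟩
  · rintro ⟨a, rfl⟩
    rw [LinearMap.comp_apply, h.apply_apply_eq_zero, map_zero]

noncomputable section

variable (R) in
/-- The syzygies of the canonical pure covers. -/
def syz (M : ModuleCat.{u} R) : ℕ → ModuleCat.{u} R
  | 0 => M
  | n + 1 => ModuleCat.of R (LinearMap.ker (coverHom R (syz M n)))

variable (M : ModuleCat.{u} R)

/-- The terms of the pure projective resolution. -/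
abbrev ppX (n : ℕ) : ModuleCat.{u} R :=
  ModuleCat.of R (Π₀ i : CoverIdx R (syz R M n), CoverPart i)

/-- The inclusion of a syzygy. -/
def ppι (n : ℕ) : syz R M (n + 1) →ₗ[R] ppX M n := (LinearMap.ker (coverHom R (syz R M n))).subtype

/-- The projection to a syzygy. -/
def ppc (n : ℕ) : ppX M n →ₗ[R] syz R M n := coverHom R (syz R M n)

theorem pp_exact (n : ℕ) : Function.Exact (ppι M n) (ppc M n) := LinearMap.exact_subtype_ker_map _

theorem ppι_ui (n : ℕ) : CAlgX.UniversallyInjective R (ppι M n) := universallyInjective_ker_coverHom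

/-- The differentials. -/
def ppd (n : ℕ) : ppX M (n + 1) ⟶ ppX M n := ModuleCat.ofHom (ppι M n ∘ₗ ppc M (n + 1))

theorem ppd_sq (n : ℕ) : ppd M (n + 1) ≫ ppd M n = 0 := by
  refine ModuleCat.hom_ext (LinearMap.ext fun x => ?_)
  change ppι M n (ppc M (n + 1) (ppι M (n + 1) (ppc M (n + 2) x))) = 0
  rw [(pp_exact M (n + 1)).apply_apply_eq_zero, map_zero]

/-- The pure projective resolution. -/
def ppC : ChainComplex (ModuleCat.{u} R) ℕ := ChainComplex.of (ppX M) (ppd M) (ppd_sq M)

theorem ppC_d (n : ℕ) : (ppC M).d (n + 1) n = ppd M n := ChainComplex.of_d (ppX M) (ppd M) n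

/-- The augmentation. -/
def ppπ : ppC M ⟶ (ChainComplex.single₀ (ModuleCat.{u} R)).obj M :=
  (ChainComplex.toSingle₀Equiv (ppC M) M).symm ⟨ModuleCat.ofHom (ppc M 0), by
    rw [ppC_d]
    refine ModuleCat.hom_ext (LinearMap.ext fun x => ?_)
    exact (pp_exact M 0).apply_apply_eq_zero _⟩

theorem ppπ_aug : aug (ppC M) (ppπ M) = ppc M 0 := by
  exact congrArg ModuleCat.Hom.hom (ChainComplex.toSingle₀Equiv_symm_apply_f_zero (C := ppC M) (X := M) _ _)

theorem ppC_chainUE : ChainUE (ppC M) (ppπ M) := by
  refine ⟨fun n Q _ _ => ?_, fun Q _ _ => ?_, fun Q _ _ => ?_⟩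
  · rw [ppC_d, ppC_d]
    exact exact_glue (ppc M (n + 2)) (ppι M (n + 1)) (ppc M (n + 1)) (ppι M n) (coverHom_surjective _) (pp_exact M _)
      (coverHom_surjective _) (ppι_ui M n) Q
  · rw [ppC_d, ppπ_aug]
    exact exact_glue (ppc M 1) (ppι M 0) (ppc M 0) LinearMap.id (coverHom_surjective _) (pp_exact M _)
      (coverHom_surjective _) (fun Q _ _ => by rw [LinearMap.rTensor_id]; exact Function.injective_id) Q
  · rw [ppπ_aug]
    exact LinearMap.rTensor_surjective (g := ppc M 0) Q (coverHom_surjective (syz R M 0))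

/-- Double character modules are pure injective. -/
theorem pureInj_double (A : Type u) [AddCommGroup A] [Module R A] :
    PureInj R (CharacterModule (CharacterModule A)) :=
  (Groth.Agent.S8771.result R (CharacterModule (CharacterModule A))).2
    ⟨CharacterModule.dual (PureExt.charEval R (CharacterModule A)), LinearMap.ext fun Φ => rfl⟩

variable (R) in
/-- The cosyzygies of the evaluation maps into double character modules. -/
def cosyz (M : ModuleCat.{u} R) : ℕ → ModuleCat.{u} R
  | 0 => M
  | n + 1 => ModuleCat.of R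
      (CharacterModule (CharacterModule (cosyz M n)) ⧸ LinearMap.range (PureExt.charEval R (cosyz M n)))

/-- The terms of the pure injective resolution. -/
abbrev piX (n : ℕ) : ModuleCat.{u} R := ModuleCat.of R (CharacterModule (CharacterModule (cosyz R M n)))

/-- The projection to a cosyzygy. -/
def piq (n : ℕ) : piX M n →ₗ[R] cosyz R M (n + 1) := (LinearMap.range (PureExt.charEval R (cosyz R M n))).mkQ

/-- The evaluation map of a cosyzygy. -/
def pie (n : ℕ) : cosyz R M n →ₗ[R] piX M n := PureExt.charEval R (cosyz R M n)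

theorem pi_exact (n : ℕ) : Function.Exact (pie M n) (piq M n) := LinearMap.exact_map_mkQ_range _

theorem pie_ui (n : ℕ) : CAlgX.UniversallyInjective R (pie M n) := Groth.Agent.S8772.result R (cosyz R M n)

theorem piq_surjective (n : ℕ) : Function.Surjective (piq M n) := Submodule.mkQ_surjective _

/-- The differentials. -/
def pid (n : ℕ) : piX M n ⟶ piX M (n + 1) := ModuleCat.ofHom (pie M (n + 1) ∘ₗ piq M n)

theorem pid_sq (n : ℕ) : pid M n ≫ pid M (n + 1) = 0 := by
  refine ModuleCat.hom_ext (LinearMap.ext fun x => ?_)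
  change pie M (n + 2) (piq M (n + 1) (pie M (n + 1) (piq M n x))) = 0
  rw [(pi_exact M (n + 1)).apply_apply_eq_zero, map_zero]

/-- The pure injective resolution. -/
def piC : CochainComplex (ModuleCat.{u} R) ℕ := CochainComplex.of (piX M) (pid M) (pid_sq M)

theorem piC_d (n : ℕ) : (piC M).d n (n + 1) = pid M n := CochainComplex.of_d (piX M) (pid M) n

/-- The coaugmentation. -/
def piη : (CochainComplex.single₀ (ModuleCat.{u} R)).obj M ⟶ piC M :=
  (CochainComplex.fromSingle₀Equiv (piC M) M).symm ⟨ModuleCat.ofHom (pie M 0), by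
    rw [piC_d]
    refine ModuleCat.hom_ext (LinearMap.ext fun x => ?_)
    exact (congrArg (pie M 1) ((pi_exact M 0).apply_apply_eq_zero x)).trans (map_zero _)⟩

theorem piη_coaug : coaug (piC M) (piη M) = pie M 0 := by
  exact congrArg ModuleCat.Hom.hom (CochainComplex.fromSingle₀Equiv_symm_apply_f_zero (C := piC M) (X := M) _ _)

theorem piC_cochainUE : CochainUE (piC M) (piη M) := by
  refine ⟨fun n Q _ _ => ?_, fun Q _ _ => ?_, fun Q _ _ => ?_⟩
  · rw [piC_d, piC_d]
    exact exact_glue (piq M n) (pie M (n + 1)) (piq M (n + 1)) (pie M (n + 2)) (piq_surjective M n) (pi_exact M _)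
      (piq_surjective M _) (pie_ui M _) Q
  · rw [piC_d, piη_coaug]
    exact exact_glue (LinearMap.id) (pie M 0) (piq M 0) (pie M 1) Function.surjective_id (pi_exact M _)
      (piq_surjective M _) (pie_ui M _) Q
  · rw [piη_coaug]
    exact pie_ui M 0 Q

end

end PureExtLib
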